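import Groth.Prelude.Def_AlgSt5
import Mathlib.AlgebraicGeometry.Sites.Fpqc

/-!
# Descending an equivariant map on a torsor
-/

set_option autoImplicit false
set_option backward.isDefEq.respectTransparency false
set_option backward.isDefEq.respectTransparency.types false

universe u

open CategoryTheory CategoryTheory.Limits MonoidalCategory CartesianMonoidalCategory AlgebraicGeometry

namespace Groth.Agent.EssDimLib

/-- Flat, quasi-compact and surjective morphisms. -/
abbrev fqs : MorphismProperty Scheme.{u} := @Flat ⊓ @QuasiCompact ⊓ @Surjective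

variable {S : Scheme.{u}}

theorem epi_of_fqs {A B : Over S} {f : A ⟶ B} (h : fqs f.left) : Epi f := by
  obtain ⟨⟨_, _⟩, _⟩ := h
  have := Flat.epi_of_flat_of_surjective f.left
  exact Over.epi_of_epi_left f

theorem fqs_of_isPullback {P A B C : Over S} {a : P ⟶ A} {b : P ⟶ B} {f : A ⟶ C} {g : B ⟶ C}
    (sq : IsPullback a b f g) (h : fqs g.left) : fqs a.left := by
  obtain ⟨⟨h1, h2⟩, h3⟩ := h
  have sq' := (sq.map (Over.forget S)).flip
  exact ⟨⟨MorphismProperty.of_isPullback sq' h1, MorphismProperty.of_isPullback sq' h2⟩,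
    MorphismProperty.of_isPullback sq' h3⟩

theorem exists_desc_over {A B X : Over S} (r : A ⟶ B) (h : fqs r.left) (χ : A ⟶ X)
    (hχ : ∀ {Z : Over S} (g₁ g₂ : Z ⟶ A), g₁ ≫ r = g₂ ≫ r → g₁ ≫ χ = g₂ ≫ χ) :
    ∃ φ : B ⟶ X, r ≫ φ = χ := by
  obtain ⟨⟨_, _⟩, _⟩ := h
  have hs : ∀ {W : Scheme.{u}} (g₁ g₂ : W ⟶ A.left), g₁ ≫ r.left = g₂ ≫ r.left → g₁ ≫ χ.left = g₂ ≫ χ.left :=
    fun {W} g₁ g₂ e => by
      have e' : g₂ ≫ A.hom = g₁ ≫ A.hom := by
        rw [← Over.w r, ← Category.assoc, ← e, Category.assoc]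
      exact congrArg CommaMorphism.left
        (hχ (Z := Over.mk (g₁ ≫ A.hom)) (Over.homMk g₁ rfl) (Over.homMk g₂ e') (Over.OverMorphism.ext e))
  let d := EffectiveEpi.desc r.left χ.left hs
  have hd : r.left ≫ d = χ.left := EffectiveEpi.fac r.left χ.left hs
  have := Flat.epi_of_flat_of_surjective r.left
  refine ⟨Over.homMk d ?_, Over.OverMorphism.ext hd⟩
  rw [← cancel_epi r.left, ← Category.assoc, hd, Over.w χ, Over.w r]

variable {K : Precoverage Scheme.{u}} {G : Over S} [GrpObj G] {X : Over S} {aX : AlgGrp.Action G X}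

theorem exists_equivariant_desc (A : AlgSt.QuotObj K G aX) {X' : Over S} {aX' : AlgGrp.Action G X'}
    (B : AlgSt.QuotObj K G aX') (top : A.P ⟶ B.P) (u : A.base ⟶ B.base)
    (heqv : A.act.act ≫ top = (G ◁ top) ≫ B.act.act) (hcart : IsPullback top A.π B.π u)
    (hu : fqs u.left) {T : Over S} (q : T ⟶ B.base) (hq : fqs q.left) (a' : T ⟶ B.P) (ha' : a' ≫ B.π = q)
    (x' : T ⟶ X) {TA : Over S} (v : TA ⟶ A.base) (w : TA ⟶ T) (sq : IsPullback v w u q)
    (aA : TA ⟶ A.P) (h₁ : aA ≫ A.π = v) (h₂ : aA ≫ top = w ≫ a') (h₃ : aA ≫ A.φ = w ≫ x') :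
    ∃ φ : B.P ⟶ X, top ≫ φ = A.φ ∧ B.act.act ≫ φ = (G ◁ φ) ≫ aX.act := by
  let r := pullback.fst B.π q
  let π'' := pullback.snd B.π q
  have hr : fqs r.left := fqs_of_isPullback (IsPullback.of_hasPullback B.π q) hq
  have hrw : r ≫ B.π = (π'' ≫ a') ≫ B.π := by rw [Category.assoc, ha']; exact pullback.condition
  let gp := B.cart.lift r (π'' ≫ a') hrw
  let g'' := gp ≫ fst G B.P
  have hgp : gp = lift g'' (π'' ≫ a') := by
    apply CartesianMonoidalCategory.hom_ext
    · simp [g'']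
    · rw [lift_snd]; exact B.cart.lift_snd _ _ _
  have hact : lift g'' (π'' ≫ a') ≫ B.act.act = r := by
    rw [← hgp]; exact B.cart.lift_fst _ _ _
  let χ := lift g'' (π'' ≫ x') ≫ aX.act
  let rA := pullback.snd r top
  let vv := pullback.fst r top
  have hrA : vv ≫ r = rA ≫ top := pullback.condition
  let tA := sq.lift (rA ≫ A.π) (vv ≫ π'') (by
    rw [Category.assoc, Category.assoc, ← hcart.w, ← pullback.condition (f := B.π) (g := q),
      ← Category.assoc, ← Category.assoc, ← hrA])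
  have hkey : lift (vv ≫ g'') (tA ≫ aA) ≫ A.act.act = rA := by
    refine hcart.hom_ext ?_ ?_
    · rw [Category.assoc, heqv, ← Category.assoc, lift_whiskerLeft, Category.assoc, h₂,
        sq.lift_snd_assoc, Category.assoc, ← comp_lift, Category.assoc, hact, hrA]
    · rw [Category.assoc, A.cart.w, ← Category.assoc, lift_snd, Category.assoc, h₁, sq.lift_fst]
  have hvχ : vv ≫ χ = rA ≫ A.φ := by
    conv_rhs => rw [← hkey]
    rw [Category.assoc, A.eqv, ← Category.assoc (lift _ _), lift_whiskerLeft, Category.assoc, h₃,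
      sq.lift_snd_assoc, ← Category.assoc vv, comp_lift, Category.assoc]
  obtain ⟨φ, hφ⟩ := exists_desc_over r hr χ fun {Z} g₁ g₂ e => by
    have hz : fqs (pullback.fst (g₁ ≫ r) top).left :=
      fqs_of_isPullback (IsPullback.of_hasPullback (g₁ ≫ r) top)
        (fqs_of_isPullback hcart hu)
    have := epi_of_fqs hz
    rw [← cancel_epi (pullback.fst (g₁ ≫ r) top)]
    let l₁ := pullback.lift (pullback.fst (g₁ ≫ r) top ≫ g₁) (pullback.snd (g₁ ≫ r) top)
      (by rw [Category.assoc]; exact pullback.condition) (f := r) (g := top)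
    let l₂ := pullback.lift (pullback.fst (g₁ ≫ r) top ≫ g₂) (pullback.snd (g₁ ≫ r) top)
      (by rw [Category.assoc, ← e]; exact pullback.condition) (f := r) (g := top)
    have e1 : l₁ ≫ vv = pullback.fst (g₁ ≫ r) top ≫ g₁ := pullback.lift_fst _ _ _
    have e2 : l₂ ≫ vv = pullback.fst (g₁ ≫ r) top ≫ g₂ := pullback.lift_fst _ _ _
    rw [← reassoc_of% e1, ← reassoc_of% e2, hvχ, pullback.lift_snd_assoc, pullback.lift_snd_assoc]
  have htop : top ≫ φ = A.φ := by
    have hA : fqs rA.left := fqs_of_isPullback (IsPullback.of_hasPullback r top).flip hr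
    have := epi_of_fqs hA
    rw [← cancel_epi rA, ← reassoc_of% hrA, hφ, hvχ]
  refine ⟨φ, htop, ?_⟩
  have hG : fqs (G ◁ top).left := fqs_of_isPullback (AlgSt.isPullback_whiskerLeft top)
    (fqs_of_isPullback hcart hu)
  have := epi_of_fqs hG
  rw [← cancel_epi (G ◁ top), ← reassoc_of% heqv, htop, A.eqv, ← MonoidalCategory.whiskerLeft_comp_assoc,
    htop]

end Groth.Agent.EssDimLib
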