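import Groth.Prelude.Def_EssDim
import Groth.Prelude.Def_AlgSt5
import Groth.Agent.VarDim.Top
import Groth.Agent.WeilLib.PointCount
import Mathlib.RingTheory.Jacobson.Ring
import Mathlib.AlgebraicGeometry.Sites.Small
import Mathlib.FieldTheory.AlgebraicClosure

/-!
# Points with finite residue fields and fields of definition of points
-/

set_option autoImplicit false
set_option backward.isDefEq.respectTransparency false
set_option backward.isDefEq.respectTransparency.types false

universe u

open CategoryTheory AlgebraicGeometry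

namespace Groth.Agent.EssDimLib

/-- An fppf locally trivial scheme over a field has a point with values in a finite extension. -/
theorem exists_finite_point {K : Type u} [Field K] {X : Over (Spec (CommRingCat.of K))}
    (h : NonAbH1.IsLocallyTrivialFor Scheme.fppfPrecoverage X) :
    ∃ (E : Type u) (_ : Field E) (_ : Algebra K E) (_ : Module.Finite K E)
      (p : Spec (CommRingCat.of E) ⟶ X.left),
      p ≫ X.hom = Spec.map (CommRingCat.ofHom (algebraMap K E)) := by
  obtain ⟨R, hR, hs⟩ := h
  obtain ⟨ι, Z, g, rfl⟩ := Presieve.exists_eq_ofArrows R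
  replace hR := (Scheme.ofArrows_mem_precoverage_iff (P := @Flat ⊓ @LocallyOfFinitePresentation)).1 hR
  obtain ⟨i, z, -⟩ := hR.1 (IsLocalRing.closedPoint K)
  obtain ⟨s, hs⟩ := hs (g i) ⟨i⟩
  have hfp : LocallyOfFinitePresentation (g i) := (hR.2 i).2
  obtain ⟨U, hU, hz, -⟩ := exists_isAffineOpen_mem_and_subset (X := Z i) (x := z) (U := ⊤) trivial
  let j := hU.fromSpec ≫ g i
  let A := Γ(Z i, U)
  letI : Algebra K A := (Spec.preimage j).hom.toAlgebra
  have hj : Spec.map (CommRingCat.ofHom (algebraMap K A)) = j := Spec.map_preimage j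
  have : LocallyOfFiniteType (Spec.map (CommRingCat.ofHom (algebraMap K A))) := by
    rw [hj]; infer_instance
  have : Algebra.FiniteType K A :=
    RingHom.finiteType_algebraMap.1 ((HasRingHomProperty.Spec_iff (P := @LocallyOfFiniteType)).1 this)
  have : Nontrivial A := by
    haveI : Nonempty (U : Scheme.{u}) := ⟨⟨z, hz⟩⟩
    exact PrimeSpectrum.nonempty_iff_nontrivial.1
      (Nonempty.map (fun y => hU.isoSpec.hom y) ‹Nonempty (U : Scheme.{u})›)
  obtain ⟨m, hm⟩ := Ideal.exists_maximal A
  letI : Field (A ⧸ m) := Ideal.Quotient.field m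
  have : Module.Finite K (A ⧸ m) := finite_of_finite_type_of_isJacobsonRing K (A ⧸ m)
  refine ⟨A ⧸ m, inferInstance, inferInstance, this,
    Spec.map (CommRingCat.ofHom (Ideal.Quotient.mk m)) ≫ hU.fromSpec ≫ s, ?_⟩
  rw [Category.assoc, Category.assoc, hs, show hU.fromSpec ≫ g i = j from rfl, ← hj, ← Spec.map_comp,
    ← CommRingCat.ofHom_comp]
  rfl

theorem tdeg_le_dim {k : Type u} [Field k] {X : Scheme.{u}} (f : X ⟶ Spec (CommRingCat.of k))
    [LocallyOfFiniteType f] (z : X) :
    ((Cardinal.toENat (VarDim.tdeg f z) : ℕ∞) : WithBot ℕ∞) ≤ topologicalKrullDim X := by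
  rw [VarDim.topologicalKrullDim_eq_iSup_deg f, ← VarDim.deg_eq_tdeg f z]
  simpa using le_iSup (fun x : X => ((VarDim.deg f x : ℕ∞) : WithBot ℕ∞)) z

/-- A subfield containing `K`, the image of a field `κ` over `k`, and algebraically closed. -/
theorem exists_algClosed_hull {k K M : Type u} [Field k] [Field K] [Field M] [Algebra k K] [Algebra k M]
    [Algebra K M] [IsScalarTower k K M] {κ : Type u} [Field κ] [Algebra k κ] (γ : κ →ₐ[k] M) :
    ∃ F : IntermediateField K M, (∀ c, γ c ∈ F) ∧
      (∀ x : M, IsAlgebraic F x → x ∈ F) ∧ Algebra.trdeg K F ≤ Algebra.trdeg k κ := by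
  obtain ⟨s, hs⟩ := exists_isTranscendenceBasis k κ
  have halg := hs.isAlgebraic
  rw [Subtype.range_coe] at halg
  let E : IntermediateField K M := IntermediateField.adjoin K (γ '' s)
  have hmem : ∀ c : κ, c ∈ Algebra.adjoin k s → γ c ∈ E := fun c hc => by
    have : c ∈ (E.restrictScalars k).toSubalgebra.comap γ := by
      refine Algebra.adjoin_le ?_ hc
      intro a ha
      exact IntermediateField.subset_adjoin K _ ⟨a, ha, rfl⟩
    exact this
  let f : Algebra.adjoin k s →+* E := ((γ : κ →+* M).comp (Algebra.adjoin k s).val.toRingHom).codRestrict E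
    fun c => hmem c.1 c.2
  have hf : Function.Injective f := fun a b hab =>
    Subtype.ext ((γ : κ →+* M).injective (congrArg Subtype.val hab))
  refine ⟨(algebraicClosure E M).restrictScalars K, fun c => ?_, fun x hx => ?_, ?_⟩
  · rw [IntermediateField.mem_restrictScalars, mem_algebraicClosure_iff]
    exact (halg.isAlgebraic c).ringHom_of_comp_eq f (γ : κ →+* M) hf rfl
  · rw [IntermediateField.mem_restrictScalars, mem_algebraicClosure_iff]
    have hx' : IsAlgebraic (algebraicClosure E M) x := hx
    have := algebraicClosure.isAlgebraic E M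
    exact hx'.restrictScalars E
  haveI : Algebra.IsAlgebraic E (algebraicClosure E M) := algebraicClosure.isAlgebraic E M
  show Algebra.trdeg K (algebraicClosure E M) ≤ _
  rw [← trdeg_add_eq K E (A := algebraicClosure E M), trdeg_eq_zero (R := E), add_zero]
  let s' : Set E := Subtype.val ⁻¹' (γ '' s)
  haveI : Algebra.IsAlgebraic (Algebra.adjoin K s') E := by
    refine ⟨fun z => ?_⟩
    suffices ∀ (x : M) (hx : x ∈ E), IsAlgebraic (Algebra.adjoin K s') (⟨x, hx⟩ : E) from this z.1 z.2
    intro x hx
    induction hx using IntermediateField.adjoin_induction with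
    | mem x hx =>
      exact isAlgebraic_algebraMap (R := Algebra.adjoin K s')
        (⟨⟨x, IntermediateField.subset_adjoin K _ hx⟩, Algebra.subset_adjoin hx⟩ : Algebra.adjoin K s')
    | algebraMap c => exact isAlgebraic_algebraMap (R := Algebra.adjoin K s') (algebraMap K _ c)
    | add x y hx hy h₁ h₂ => exact h₁.add h₂
    | inv x hx h₁ => exact (IsAlgebraic.inv_iff.2 h₁ : IsAlgebraic _ (⟨x, hx⟩ : E)⁻¹)
    | mul x y hx hy h₁ h₂ => exact h₁.mul h₂
  refine (Algebra.IsAlgebraic.trdeg_le_cardinalMk K s').trans ?_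
  exact ((Cardinal.mk_preimage_of_injective _ _ Subtype.val_injective).trans Cardinal.mk_image_le).trans
    hs.1.cardinalMk_le_trdeg

end Groth.Agent.EssDimLib
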