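import Groth.Prelude.Def_EssDim
import Groth.Prelude.Def_StCurv
import Groth.Agent.Genus0Family.Trivial
import Groth.Agent.Genus0Family.Moduli
import Groth.Agent.H23.ProjAut
import Mathlib.LinearAlgebra.Matrix.NonsingularInverse

/-!
# Genus zero curves with one or two marked points
-/

set_option autoImplicit false
set_option linter.style.haveILetI false
set_option backward.isDefEq.respectTransparency false
set_option backward.isDefEq.respectTransparency.types false

universe u

open CategoryTheory CategoryTheory.Limits AlgebraicGeometry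

noncomputable section

namespace Groth.Agent.EssDimLib.Genus0

open scoped Matrix
open Groth.Agent.SBAut Groth.Agent.SBAut.ProjIso Groth.Agent.H23.ProjAut

section Line

variable {L : Type u} [Field L]

local notation "P1" => CohB1.ProjSpace 1 L
local notation "π1" => CohB1.ProjSpace.toSpec 1 L

/-- A rational point is determined by its image. -/
theorem eq_of_base_eq {C : Scheme.{u}} (f : C ⟶ Spec (CommRingCat.of L)) (p q : Spec (CommRingCat.of L) ⟶ C)
    (hp : p ≫ f = 𝟙 _) (hq : q ≫ f = 𝟙 _)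
    (h : p.base (IsLocalRing.closedPoint L) = q.base (IsLocalRing.closedPoint L)) : p = q := by
  obtain ⟨⟨x, φ⟩, rfl⟩ := (Scheme.SpecToEquivOfField L C).symm.surjective p
  obtain ⟨⟨y, ψ⟩, rfl⟩ := (Scheme.SpecToEquivOfField L C).symm.surjective q
  change (Spec.map φ ≫ C.fromSpecResidueField x).base _ = (Spec.map ψ ≫ C.fromSpecResidueField y).base _ at h
  rw [Scheme.Hom.comp_apply, Scheme.Hom.comp_apply, Scheme.fromSpecResidueField_apply,
    Scheme.fromSpecResidueField_apply] at h
  subst h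
  let a := Spec.preimage (C.fromSpecResidueField x ≫ f)
  have hφ : a ≫ φ = 𝟙 _ := Spec.map_injective (by
    rw [Spec.map_comp, Spec.map_preimage, Spec.map_id, ← Category.assoc]; exact hp)
  have hψ : a ≫ ψ = 𝟙 _ := Spec.map_injective (by
    rw [Spec.map_comp, Spec.map_preimage, Spec.map_id, ← Category.assoc]; exact hq)
  have hinj : Function.Injective φ.hom := φ.hom.injective
  have hφ' : φ ≫ a = 𝟙 _ := CommRingCat.hom_ext (RingHom.ext fun z => hinj (congr($(hφ).hom (φ.hom z))))
  have : φ = ψ := by rw [← Category.comp_id φ, ← hψ, ← Category.assoc, hφ', Category.id_comp]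
  rw [this]

/-- A standard point of the line. -/
def stdPt (i : Fin 2) : Spec (CommRingCat.of L) ⟶ P1 :=
  ppt (K := L) (Pi.single i (1 : L) : Fin 2 → L) i (by simp)

theorem ppt_section (v : Fin 2 → L) (i : Fin 2) (h : IsUnit (v i)) : ppt (K := L) v i h ≫ π1 = 𝟙 _ := by
  rw [ppt_toSpec, Algebra.algebraMap_self]
  exact Spec.map_id _

theorem stdPt_section (i : Fin 2) : stdPt (L := L) i ≫ π1 = 𝟙 _ := ppt_section _ _ _

theorem stdPt_ne : stdPt (L := L) 0 ≠ stdPt 1 := fun h => by
  have := rel_of_ppt_eq' (K := L) _ _ h 0 1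
  simp at this

theorem stdPt_injective : Function.Injective (stdPt (L := L)) := fun i j h => by
  have := rel_of_ppt_eq' (K := L) _ _ h i j
  by_contra hij
  simp [Pi.single_eq_of_ne hij, Pi.single_eq_of_ne (Ne.symm hij)] at this

theorem exists_vec (q : Spec (CommRingCat.of L) ⟶ P1) (hq : q ≫ π1 = 𝟙 _) :
    ∃ (v : Fin 2 → L) (j : Fin 2) (h : IsUnit (v j)), q = ppt (K := L) v j h := by
  obtain ⟨v, j, hj, e⟩ := exists_ppt (K := L) (N := 1) (R := L) q (by
    rw [hq, Algebra.algebraMap_self]; exact (Spec.map_id _).symm)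
  exact ⟨v, j, _, e⟩

/-- Two distinct points have independent coordinates. -/
theorem isUnit_det_of_ne {v w : Fin 2 → L} {i j : Fin 2} (hi : IsUnit (v i)) (hj : IsUnit (w j))
    (h : ppt (K := L) v i hi ≠ ppt w j hj) : IsUnit (Matrix.of ![![v 0, w 0], ![v 1, w 1]]).det := by
  rw [Matrix.det_fin_two_of]
  refine isUnit_iff_ne_zero.2 fun h0 => h (ppt_of_rel (fun a b => ?_) hi hj)
  fin_cases a <;> fin_cases b <;> simp <;> first | linear_combination h0 | linear_combination -h0

/-- The automorphisms of the line are transitive on pairs of distinct points. -/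
theorem exists_aut_pair (p q : Fin 2 → (Spec (CommRingCat.of L) ⟶ P1))
    (hp : ∀ i, p i ≫ π1 = 𝟙 _) (hq : ∀ i, q i ≫ π1 = 𝟙 _) (hp' : p 0 ≠ p 1) (hq' : q 0 ≠ q 1) :
    ∃ α : P1 ≅ P1, α.hom ≫ π1 = π1 ∧ ∀ i, p i ≫ α.hom = q i := by
  choose v a hv ev using fun i => exists_vec (p i) (hp i)
  choose w b hw ew using fun i => exists_vec (q i) (hq i)
  have hV := isUnit_det_of_ne (hv 0) (hv 1) (fun h => hp' (by rw [ev 0, ev 1, h]))
  have hW := isUnit_det_of_ne (hw 0) (hw 1) (fun h => hq' (by rw [ew 0, ew 1, h]))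
  let V : GL (Fin 2) L := ((Matrix.isUnit_iff_isUnit_det _).2 hV).unit
  let W : GL (Fin 2) L := ((Matrix.isUnit_iff_isUnit_det _).2 hW).unit
  let M := W * V⁻¹
  let α : P1 ≅ P1 := (Over.forget _).mapIso (actAut (K := L) (N := 1) M)
  have hcol : ∀ i, (M : Matrix (Fin 2) (Fin 2) L).map (algebraMap L L) *ᵥ v i = w i := fun i => by
    have h1 : (V : Matrix (Fin 2) (Fin 2) L) *ᵥ Pi.single i 1 = v i := by
      funext a
      fin_cases a <;> fin_cases i <;> simp [V, Matrix.mulVec_single]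
    have h2 : (W : Matrix (Fin 2) (Fin 2) L) *ᵥ Pi.single i 1 = w i := by
      funext a
      fin_cases a <;> fin_cases i <;> simp [W, Matrix.mulVec_single]
    rw [Algebra.algebraMap_self, show (M : Matrix (Fin 2) (Fin 2) L).map (RingHom.id L) =
      (M : Matrix (Fin 2) (Fin 2) L) from Matrix.map_id _, ← h1, Matrix.mulVec_mulVec, ← Units.val_mul,
      inv_mul_cancel_right, h2]
  refine ⟨α, actMap_toSpec M, fun i => ?_⟩
  show p i ≫ actMap M = q i
  rw [ev i, ppt_actMap M (v i) (a i) (b i) (hv i) ((hcol i).symm ▸ hw i), ew i]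
  exact ppt_of_rel ((hcol i).symm ▸ Rel.refl (w i)) _ _

/-- Every point has another one next to it. -/
theorem exists_other (p : Spec (CommRingCat.of L) ⟶ P1) :
    ∃ p' : Spec (CommRingCat.of L) ⟶ P1, p' ≫ π1 = 𝟙 _ ∧ p ≠ p' := by
  by_cases h : p = stdPt 0
  · exact ⟨stdPt 1, stdPt_section _, h ▸ stdPt_ne⟩
  · exact ⟨stdPt 0, stdPt_section _, h⟩

/-- The automorphisms of the line are transitive on at most two distinct points. -/
theorem exists_aut (n : ℕ) (hn : n ≤ 2) (p q : Fin n → (Spec (CommRingCat.of L) ⟶ P1))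
    (hp : ∀ i, p i ≫ π1 = 𝟙 _) (hq : ∀ i, q i ≫ π1 = 𝟙 _) (hp' : Function.Injective p)
    (hq' : Function.Injective q) :
    ∃ α : P1 ≅ P1, α.hom ≫ π1 = π1 ∧ ∀ i, p i ≫ α.hom = q i := by
  match n, hn with
  | 0, _ => exact ⟨Iso.refl _, Category.id_comp _, fun i => i.elim0⟩
  | 1, _ =>
    obtain ⟨p₁, hp₁, hne⟩ := exists_other (p 0)
    obtain ⟨q₁, hq₁, hne'⟩ := exists_other (q 0)
    obtain ⟨α, hα, h⟩ := exists_aut_pair ![p 0, p₁] ![q 0, q₁] (fun i => by fin_cases i <;> simp [hp, hp₁])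
      (fun i => by fin_cases i <;> simp [hq, hq₁]) hne hne'
    exact ⟨α, hα, fun i => by fin_cases i; exact h 0⟩
  | 2, _ => exact exists_aut_pair p q hp hq (hp'.ne (by simp)) (hq'.ne (by simp))

/-- A genus zero curve with a rational point is the line. -/
theorem exists_iso_line {C : Scheme.{u}} (f : C ⟶ Spec (CommRingCat.of L)) (h : ModFun.IsCurveOfGenus 0 f)
    (σ : Spec (CommRingCat.of L) ⟶ C) (hσ : σ ≫ f = 𝟙 _) :
    ∃ e : C ≅ P1, e.hom ≫ π1 = f := by
  haveI := h.1
  haveI := h.2.1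
  obtain ⟨R, _, i, hi, hs, e, he⟩ := Genus0Family.exists_local_iso f
    (fun K _ _ x => Genus0Family.geometric_fibre f h K x) σ hσ (IsLocalRing.closedPoint L)
  haveI : Subsingleton (Spec (CommRingCat.of L)) := inferInstanceAs (Subsingleton (PrimeSpectrum L))
  haveI : IsIso i := (isIso_iff_isOpenImmersion_and_epi_base i).2 ⟨hi, (TopCat.epi_iff_surjective _).2
    fun y => by obtain ⟨z, hz⟩ := hs; exact ⟨z, hz.trans (Subsingleton.elim _ _)⟩⟩
  obtain ⟨g, hg⟩ := Genus0Family.exists_isPullback_projSpace 1 (inv i)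
  haveI : IsIso g := hg.isIso_fst_of_isIso
  refine ⟨(asIso (pullback.fst f i)).symm ≪≫ e ≪≫ (asIso g).symm, ?_⟩
  have hw : inv g ≫ π1 = CohB1.ProjSpace.toSpec 1 R ≫ i := by
    rw [IsIso.inv_comp_eq, ← Category.assoc, hg.w, Category.assoc, IsIso.inv_hom_id, Category.comp_id]
  simp only [Iso.trans_hom, Iso.symm_hom, asIso_inv, Category.assoc, hw]
  rw [← Category.assoc e.hom, he, ← pullback.condition, IsIso.inv_hom_id_assoc]

end Line

section Descent

variable {k : Type u} [Field k]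

/-- The standard marked line. -/
def stdObj (K : Type u) [Field K] [Algebra k K] (n : ℕ) (hn : n ≤ 2) :
    CurvSt.PtFamObj (Spec (CommRingCat.of k)) n where
  base := SGA7.pt (K := k) K
  C := CohB1.ProjSpace 1 K
  f := CohB1.ProjSpace.toSpec 1 K
  sect i := stdPt (Fin.castLE hn i)
  sect_f i := stdPt_section _

theorem stdObj_smooth (K : Type u) [Field K] [Algebra k K] (n : ℕ) (hn : n ≤ 2) :
    CurvSt.IsSmoothPtdFam (stdObj (k := k) K n hn).f (stdObj (k := k) K n hn).sect 0 := by
  refine ⟨Genus0Family.isCurveOfGenus_line K, fun i j hij c => fun h => ?_⟩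
  haveI : Subsingleton (Spec (CommRingCat.of K)) := inferInstanceAs (Subsingleton (PrimeSpectrum K))
  obtain rfl : c = IsLocalRing.closedPoint K := Subsingleton.elim (α := Spec (CommRingCat.of K)) _ _
  have he := eq_of_base_eq (CohB1.ProjSpace.toSpec 1 K) _ _ (stdPt_section _) (stdPt_section _) h
  exact hij (Fin.castLE_injective hn (stdPt_injective he))

variable {n : ℕ} [FibCat.IsFibGrpd (CurvSt.Mgn (Spec (CommRingCat.of k)) 0 n).p]

set_option maxHeartbeats 4000000 in
/-- Every marked line is defined over any subfield. -/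
theorem descends (hn1 : 1 ≤ n) (hn2 : n ≤ 2) (L : Type u) [Field L] [Algebra k L]
    (x : StkCnt.pts (CurvSt.Mgn (Spec (CommRingCat.of k)) 0 n) L) (K : IntermediateField k L) :
    EssDim.Descends (Gerb.isoClPsh (CurvSt.Mgn (Spec (CommRingCat.of k)) 0 n))
      (Quot.mk (Gerb.IsoRel (CurvSt.Mgn (Spec (CommRingCat.of k)) 0 n) (SGA7.pt (K := k) L)) x) K := by
  refine (EssDim.descends_isoCl_iff _ x K).2 ?_
  obtain ⟨⟨⟨B, C, f, σ, hσ⟩, hA⟩, hx⟩ := x
  change B = SGA7.pt (K := k) L at hx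
  subst hx
  let x₀ : StkCnt.pts (CurvSt.Mgn (Spec (CommRingCat.of k)) 0 n) K :=
    ⟨⟨stdObj (k := k) K n hn2, stdObj_smooth K n hn2⟩, rfl⟩
  let r := (EssDim.resPt (k := k) K.val).left
  let f' : C ⟶ Spec (CommRingCat.of L) := f
  let σ' : Fin n → (Spec (CommRingCat.of L) ⟶ C) := σ
  obtain ⟨e, he⟩ := exists_iso_line f' hA.1 (σ' ⟨0, hn1⟩) (hσ _)
  obtain ⟨g, hg⟩ := Genus0Family.exists_isPullback_projSpace 1 (A := K) (B := L) r
  let q : Fin n → (Spec (CommRingCat.of L) ⟶ CohB1.ProjSpace 1 L) := fun i =>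
    hg.lift (r ≫ stdPt (Fin.castLE hn2 i)) (𝟙 _)
      (by rw [Category.assoc, stdPt_section]; exact (Category.comp_id r).trans (Category.id_comp r).symm)
  have hq : ∀ i, q i ≫ CohB1.ProjSpace.toSpec 1 L = 𝟙 _ := fun i => hg.lift_snd _ _ _
  have hqinj : Function.Injective q := fun i j h => by
    by_contra hij
    refine (stdObj_smooth (k := k) K n hn2).2 i j hij (r.base (IsLocalRing.closedPoint L)) ?_
    have h1 := congrArg (fun t => (t ≫ g).base (IsLocalRing.closedPoint L)) h
    simp only [q, hg.lift_fst] at h1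
    exact ((Scheme.Hom.comp_apply _ _ _).symm.trans h1).trans (Scheme.Hom.comp_apply _ _ _)
  have hσinj : Function.Injective fun i => σ' i ≫ e.hom := fun i j h => by
    by_contra hij
    exact hA.2 i j hij (IsLocalRing.closedPoint L) (congrArg (fun t => t.base (IsLocalRing.closedPoint L))
      ((cancel_mono e.hom).1 h))
  obtain ⟨α, hα, hαq⟩ := exists_aut n hn2 (fun i => σ' i ≫ e.hom) q
    (fun i => by rw [Category.assoc, he]; exact hσ i) hq hσinj hqinj
  let φ : CurvSt.PtFamObj.Hom ⟨SGA7.pt (K := k) L, C, f, σ, hσ⟩ (stdObj (k := k) K n hn2) :=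
    { base := EssDim.resPt (k := k) K.val
      top := (e ≪≫ α).hom ≫ g
      cart := (IsPullback.of_horiz_isIso (show CommSq (e ≪≫ α).hom f' (CohB1.ProjSpace.toSpec 1 L) (𝟙 _) from
        ⟨by rw [Iso.trans_hom, Category.assoc, hα, he, Category.comp_id]⟩)).paste_horiz hg |>.of_iso
          (Iso.refl _) (Iso.refl _) (Iso.refl _) (Iso.refl _) (by simp) (by simp [f']) (by simp [stdObj])
          (by simp [r, stdObj])
      w_sect := fun i => by
        show σ' i ≫ (e ≪≫ α).hom ≫ g = r ≫ stdPt (Fin.castLE hn2 i)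
        rw [Iso.trans_hom, Category.assoc, ← Category.assoc (σ' i), ← Category.assoc (σ' i ≫ e.hom), hαq i]
        exact hg.lift_fst _ _ _ }
  exact ⟨x₀, ObjectProperty.homMk φ, IsHomLift.of_fac' _ _ _ rfl rfl
    (by simp [CurvSt.PtFamObj.forget, φ])⟩

/-- The marked lines have essential dimension zero. -/
theorem edSt_eq_zero (hn1 : 1 ≤ n) (hn2 : n ≤ 2) :
    EssDim.edSt (CurvSt.Mgn (Spec (CommRingCat.of k)) 0 n) = 0 := by
  refine le_antisymm (iSup_le fun L => iSup_le fun fL => iSup_le fun aL => iSup_le fun ξ => ?_) ?_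
  · letI := fL
    letI := aL
    induction ξ using Quot.ind with
    | mk x =>
      refine (WithBot.coe_le_coe.2 (EssDim.edAt_le_of_descends (K := (⊥ : IntermediateField k L))
        (descends hn1 hn2 L x ⊥))).trans (le_of_eq ?_)
      rw [trdeg_eq_zero, map_zero]
      rfl
  · let x₀ : StkCnt.pts (CurvSt.Mgn (Spec (CommRingCat.of k)) 0 n) k :=
      ⟨⟨stdObj (k := k) k n hn2, stdObj_smooth k n hn2⟩, rfl⟩
    exact (WithBot.coe_le_coe.2 bot_le).trans (EssDim.edAt_le_ed (P := Gerb.isoClPsh _)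
      (Quot.mk _ x₀))

end Descent

end Groth.Agent.EssDimLib.Genus0
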