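import Mathlib.AlgebraicGeometry.Limits
import Mathlib.RingTheory.Spectrum.Prime.Topology
import Mathlib.RingTheory.TensorProduct.Free
import Mathlib.RingTheory.TensorProduct.Pi
import Mathlib.RingTheory.TensorProduct.Finite
import Mathlib.RingTheory.Spectrum.Prime.Noetherian
import Mathlib.RingTheory.Flat.Basic
import Mathlib.RingTheory.Artinian.Ring
import Mathlib.AlgebraicGeometry.AffineScheme

/-!
# Morphisms from finite schemes defined over two subfields are defined over the intersection
-/

set_option autoImplicit false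

universe u

open CategoryTheory Limits AlgebraicGeometry TensorProduct

namespace Groth.Agent.EssDimLib

variable {K L F M : Type u} [Field K] [Field L] [Field F] [Field M] [Algebra K L] [Algebra K F]
  [Algebra K M] (iL : L →ₐ[K] M) (iF : F →ₐ[K] M)
  {B : Type u} [CommRing B] [Algebra K B]

/-- The base change of the field map to `B`. -/
noncomputable abbrev bcMap (i : L →ₐ[K] M) (B : Type u) [CommRing B] [Algebra K B] : L ⊗[K] B →ₐ[K] M ⊗[K] B :=
  Algebra.TensorProduct.map i (AlgHom.id K B)

theorem repr_bcMap {ι : Type*} (b : Module.Basis ι K B) (u : L ⊗[K] B) (i : ι) :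
    (Algebra.TensorProduct.basis M b).repr (bcMap iL B u) i =
      iL ((Algebra.TensorProduct.basis L b).repr u i) := by
  induction u using TensorProduct.induction_on with
  | zero => simp
  | tmul a c => simp [Algebra.smul_def]
  | add x y hx hy => simp only [map_add, Finsupp.add_apply, hx, hy]

theorem exists_eq_one_tmul [Module.Finite K B]
    (h : ∀ a b, iL a = iF b → a ∈ Set.range (algebraMap K L))
    {u : L ⊗[K] B} {v : F ⊗[K] B} (huv : bcMap iL B u = bcMap iF B v) :
    ∃ c : B, u = 1 ⊗ₜ c := by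
  classical
  let b := Module.Free.chooseBasis K B
  have hc : ∀ i, ∃ r : K, algebraMap K L r = (Algebra.TensorProduct.basis L b).repr u i := fun i =>
    h _ ((Algebra.TensorProduct.basis F b).repr v i) (by
      rw [← repr_bcMap iL, ← repr_bcMap iF, huv])
  choose r hr using hc
  refine ⟨∑ i, r i • b i, (Algebra.TensorProduct.basis L b).repr.injective (Finsupp.ext fun i => ?_)⟩
  rw [← hr i, tmul_sum, map_sum, Finsupp.finsetSum_apply]
  simp only [TensorProduct.tmul_smul]
  simp only [← algebraMap_smul L (r _) (M := L ⊗[K] B), map_smul]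
  simp [Algebra.TensorProduct.basis_repr_tmul, Finsupp.single_apply, Algebra.algebraMap_eq_smul_one]

theorem includeRight_injective' : Function.Injective (Algebra.TensorProduct.includeRight : B →ₐ[K] L ⊗[K] B) :=
  Algebra.TensorProduct.includeRight_injective (algebraMap K L).injective

theorem exists_desc_local [Module.Finite K B] [IsLocalRing B]
    (h : ∀ a b, iL a = iF b → a ∈ Set.range (algebraMap K L)) {X : Scheme.{u}}
    (x : Spec (CommRingCat.of (L ⊗[K] B)) ⟶ X) (y : Spec (CommRingCat.of (F ⊗[K] B)) ⟶ X)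
    (hxy : Spec.map (CommRingCat.ofHom (bcMap iL B).toRingHom) ≫ x =
      Spec.map (CommRingCat.ofHom (bcMap iF B).toRingHom) ≫ y) :
    ∃ z : Spec (CommRingCat.of B) ⟶ X,
      Spec.map (CommRingCat.ofHom
        (Algebra.TensorProduct.includeRight : B →ₐ[K] L ⊗[K] B).toRingHom) ≫ z = x := by
  classical
  have : Nontrivial (M ⊗[K] B) := (includeRight_injective' (K := K) (L := M) (B := B)).nontrivial
  haveI : IsArtinianRing (L ⊗[K] B) := IsArtinianRing.of_finite L _
  haveI : IsArtinianRing (F ⊗[K] B) := IsArtinianRing.of_finite F _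
  obtain ⟨q⟩ : Nonempty (PrimeSpectrum (M ⊗[K] B)) := inferInstance
  let t : Spec (CommRingCat.of (M ⊗[K] B)) ⟶ X := Spec.map (CommRingCat.ofHom (bcMap iL B).toRingHom) ≫ x
  obtain ⟨U, hU, hqU, -⟩ := exists_isAffineOpen_mem_and_subset (X := X) (x := t q) (U := ⊤) trivial
  obtain ⟨eL, heL, hL⟩ := PrimeSpectrum.exists_idempotent_basicOpen_eq_of_isClopen
    (R := L ⊗[K] B) (s := x ⁻¹' U) ⟨isClosed_discrete _, isOpen_discrete _⟩
  obtain ⟨eF, heF, hF⟩ := PrimeSpectrum.exists_idempotent_basicOpen_eq_of_isClopen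
    (R := F ⊗[K] B) (s := y ⁻¹' U) ⟨isClosed_discrete _, isOpen_discrete _⟩
  have heq : bcMap iL B eL = bcMap iF B eF := by
    refine PrimeSpectrum.basicOpen_injOn_isIdempotentElem (heL.map _) (heF.map _) (TopologicalSpace.Opens.ext ?_)
    have e1 : (PrimeSpectrum.basicOpen (bcMap iL B eL) : Set (PrimeSpectrum (M ⊗[K] B))) =
        PrimeSpectrum.comap (bcMap iL B).toRingHom ⁻¹' (x ⁻¹' U) := by
      rw [hL]; rfl
    have e2 : (PrimeSpectrum.basicOpen (bcMap iF B eF) : Set (PrimeSpectrum (M ⊗[K] B))) =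
        PrimeSpectrum.comap (bcMap iF B).toRingHom ⁻¹' (y ⁻¹' U) := by
      rw [hF]; rfl
    rw [e1, e2]
    exact congrArg (fun w : Spec (CommRingCat.of (M ⊗[K] B)) ⟶ X => w ⁻¹' (U : Set X)) hxy
  obtain ⟨c, hc⟩ := exists_eq_one_tmul iL iF h heq
  have hci : IsIdempotentElem c := includeRight_injective' (K := K) (L := L) (by
    simp only [map_mul, Algebra.TensorProduct.includeRight_apply]
    rw [← hc]; exact heL)
  have hc1 : c = 1 := by
    rcases IsLocalRing.isUnit_or_isUnit_one_sub_self c with hu | hu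
    · exact hu.mul_left_cancel (hci.trans (mul_one c).symm)
    · have hc0 : c = 0 := hu.mul_left_cancel (by rw [sub_mul, one_mul, hci, sub_self, mul_zero])
      exfalso
      have : q ∈ PrimeSpectrum.comap (bcMap iL B).toRingHom ⁻¹' (x ⁻¹' U) := hqU
      rw [hL, hc, hc0, tmul_zero] at this
      simp at this
  have hxU : x ⁻¹' U = Set.univ := by
    refine hL.trans ?_
    rw [hc, hc1, show ((1 : L) ⊗ₜ[K] (1 : B)) = 1 from rfl]
    simp
    rfl
  have heF1 : eF = 1 := by
    have hinj : Function.Injective (bcMap iF B) := by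
      have := Module.Flat.rTensor_preserves_injective_linearMap (M := B) iF.toLinearMap iF.injective
      exact this
    apply hinj
    rw [← heq, hc, hc1, show ((1 : L) ⊗ₜ[K] (1 : B)) = 1 from rfl, map_one, map_one]
  have hyU : y ⁻¹' U = Set.univ := by
    refine hF.trans ?_
    rw [heF1]
    simp
    rfl
  have hx' : Set.range x ⊆ Set.range hU.fromSpec := by
    rw [hU.range_fromSpec]
    rintro _ ⟨p, rfl⟩
    exact (Set.ext_iff.1 hxU p).2 trivial
  have hy' : Set.range y ⊆ Set.range hU.fromSpec := by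
    rw [hU.range_fromSpec]
    rintro _ ⟨p, rfl⟩
    exact (Set.ext_iff.1 hyU p).2 trivial
  let f := Spec.preimage (IsOpenImmersion.lift hU.fromSpec x hx')
  let g := Spec.preimage (IsOpenImmersion.lift hU.fromSpec y hy')
  have hfg : f ≫ CommRingCat.ofHom (bcMap iL B).toRingHom = g ≫ CommRingCat.ofHom (bcMap iF B).toRingHom := by
    apply Spec.map_injective
    rw [Spec.map_comp, Spec.map_comp, Spec.map_preimage, Spec.map_preimage, ← cancel_mono hU.fromSpec,
      Category.assoc, Category.assoc, IsOpenImmersion.lift_fac, IsOpenImmersion.lift_fac, hxy]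
  let incl : B →+* L ⊗[K] B := (Algebra.TensorProduct.includeRight : B →ₐ[K] L ⊗[K] B).toRingHom
  have hr : ∀ r, f.hom r ∈ incl.range := fun r => by
    obtain ⟨b, hb⟩ := exists_eq_one_tmul iL iF h (congrArg (fun ψ => ψ.hom r) hfg)
    exact ⟨b, hb.symm⟩
  let e : B ≃+* incl.range := RingEquiv.ofBijective incl.rangeRestrict
    ⟨fun a b hab => includeRight_injective' (congrArg Subtype.val hab), incl.rangeRestrict_surjective⟩
  let d : Γ(X, U) →+* B := e.symm.toRingHom.comp (f.hom.codRestrict incl.range hr)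
  have hd : CommRingCat.ofHom d ≫ CommRingCat.ofHom incl = f := by
    ext r
    exact congrArg Subtype.val (e.apply_symm_apply ⟨f.hom r, hr r⟩)
  refine ⟨Spec.map (CommRingCat.ofHom d) ≫ hU.fromSpec, ?_⟩
  rw [← Category.assoc, ← Spec.map_comp, hd, Spec.map_preimage, IsOpenImmersion.lift_fac]

theorem exists_desc_finite [Module.Finite K B]
    (h : ∀ a b, iL a = iF b → a ∈ Set.range (algebraMap K L)) {X : Scheme.{u}}
    (x : Spec (CommRingCat.of (L ⊗[K] B)) ⟶ X) (y : Spec (CommRingCat.of (F ⊗[K] B)) ⟶ X)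
    (hxy : Spec.map (CommRingCat.ofHom (bcMap iL B).toRingHom) ≫ x =
      Spec.map (CommRingCat.ofHom (bcMap iF B).toRingHom) ≫ y) :
    ∃ z : Spec (CommRingCat.of B) ⟶ X,
      Spec.map (CommRingCat.ofHom
        (Algebra.TensorProduct.includeRight : B →ₐ[K] L ⊗[K] B).toRingHom) ≫ z = x := by
  classical
  haveI : IsArtinianRing B := IsArtinianRing.of_finite K B
  haveI : Fintype (PrimeSpectrum B) := Fintype.ofFinite _
  let Bp := fun p : PrimeSpectrum B => Localization.AtPrime p.asIdeal
  let e : B ≃ₐ[K] (∀ p, Bp p) := (PrimeSpectrum.toPiLocalizationEquiv (R := B)).restrictScalars K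
  let π : ∀ p, B →ₐ[K] Bp p := fun p => (Pi.evalAlgHom K Bp p).comp e.toAlgHom
  have hπ : ∀ p, Function.Surjective (π p) := fun p => (Function.surjective_eval p).comp e.surjective
  have : ∀ p, Module.Finite K (Bp p) := fun p => Module.Finite.of_surjective (π p).toLinearMap (hπ p)
  have hp : ∀ p, ∃ z : Spec (CommRingCat.of (Bp p)) ⟶ X,
      Spec.map (CommRingCat.ofHom
        (Algebra.TensorProduct.includeRight : Bp p →ₐ[K] L ⊗[K] Bp p).toRingHom) ≫ z =
      Spec.map (CommRingCat.ofHom (Algebra.TensorProduct.map (AlgHom.id K L) (π p)).toRingHom) ≫ x := fun p => by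
    refine exists_desc_local iL iF h _
      (Spec.map (CommRingCat.ofHom (Algebra.TensorProduct.map (AlgHom.id K F) (π p)).toRingHom) ≫ y) ?_
    have eL : (bcMap iL (Bp p)).comp (Algebra.TensorProduct.map (AlgHom.id K L) (π p)) =
        (Algebra.TensorProduct.map (AlgHom.id K M) (π p)).comp (bcMap iL B) := by
      ext a <;> simp
    have eF : (bcMap iF (Bp p)).comp (Algebra.TensorProduct.map (AlgHom.id K F) (π p)) =
        (Algebra.TensorProduct.map (AlgHom.id K M) (π p)).comp (bcMap iF B) := by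
      ext a <;> simp
    simp only [← Category.assoc, ← Spec.map_comp, ← CommRingCat.ofHom_comp]
    rw [show (bcMap iL (Bp p)).toRingHom.comp (Algebra.TensorProduct.map (AlgHom.id K L) (π p)).toRingHom =
        (Algebra.TensorProduct.map (AlgHom.id K M) (π p)).toRingHom.comp (bcMap iL B).toRingHom from
          congrArg AlgHom.toRingHom eL,
      show (bcMap iF (Bp p)).toRingHom.comp (Algebra.TensorProduct.map (AlgHom.id K F) (π p)).toRingHom =
        (Algebra.TensorProduct.map (AlgHom.id K M) (π p)).toRingHom.comp (bcMap iF B).toRingHom from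
          congrArg AlgHom.toRingHom eF,
      CommRingCat.ofHom_comp, CommRingCat.ofHom_comp, Spec.map_comp, Spec.map_comp, Category.assoc,
      Category.assoc, hxy]
  choose z hz using hp
  let σB := sigmaSpec (fun p => CommRingCat.of (Bp p)) ≫
    Spec.map (CommRingCat.ofHom e.toAlgHom.toRingHom)
  haveI : IsIso (Spec.map (CommRingCat.ofHom e.toAlgHom.toRingHom)) :=
    inferInstanceAs (IsIso (Spec.map e.toRingEquiv.toCommRingCatIso.hom))
  haveI : IsIso σB := inferInstanceAs (IsIso (_ ≫ _))
  have hσB : ∀ p, Sigma.ι _ p ≫ σB = Spec.map (CommRingCat.ofHom (π p).toRingHom) := fun p => by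
    rw [← Category.assoc, ι_sigmaSpec, ← Spec.map_comp, ← CommRingCat.ofHom_comp]
    rfl
  let eL : L ⊗[K] B ≃ₐ[K] (∀ p, L ⊗[K] Bp p) :=
    (Algebra.TensorProduct.congr AlgEquiv.refl e).trans (Algebra.TensorProduct.piRight K K L Bp)
  let σL := sigmaSpec (fun p => CommRingCat.of (L ⊗[K] Bp p)) ≫
    Spec.map (CommRingCat.ofHom eL.toAlgHom.toRingHom)
  haveI : IsIso (Spec.map (CommRingCat.ofHom eL.toAlgHom.toRingHom)) :=
    inferInstanceAs (IsIso (Spec.map eL.toRingEquiv.toCommRingCatIso.hom))
  haveI : IsIso σL := inferInstanceAs (IsIso (_ ≫ _))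
  have hσL : ∀ p, Sigma.ι _ p ≫ σL =
      Spec.map (CommRingCat.ofHom (Algebra.TensorProduct.map (AlgHom.id K L) (π p)).toRingHom) := fun p => by
    rw [← Category.assoc, ι_sigmaSpec, ← Spec.map_comp, ← CommRingCat.ofHom_comp]
    congr 2
    have : (Pi.evalAlgHom K (fun p => L ⊗[K] Bp p) p).comp eL.toAlgHom =
        Algebra.TensorProduct.map (AlgHom.id K L) (π p) := by
      ext a <;> simp [eL, π]
    exact congrArg AlgHom.toRingHom this
  refine ⟨inv σB ≫ Sigma.desc z, ?_⟩
  rw [← cancel_epi σL]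
  refine Sigma.hom_ext _ _ fun p => ?_
  simp only [reassoc_of% hσL]
  rw [← hz p, ← Category.assoc]
  simp only [← Spec.map_comp, ← CommRingCat.ofHom_comp]
  have e3 : (Algebra.TensorProduct.map (AlgHom.id K L) (π p)).comp Algebra.TensorProduct.includeRight =
      Algebra.TensorProduct.includeRight.comp (π p) := by
    ext a; simp
  rw [show (Algebra.TensorProduct.map (AlgHom.id K L) (π p)).toRingHom.comp
      (Algebra.TensorProduct.includeRight : B →ₐ[K] L ⊗[K] B).toRingHom =
      (Algebra.TensorProduct.includeRight : Bp p →ₐ[K] L ⊗[K] Bp p).toRingHom.comp (π p).toRingHom from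
      congrArg AlgHom.toRingHom e3,
    CommRingCat.ofHom_comp, Spec.map_comp, Category.assoc, ← hσB p]
  simp

end Groth.Agent.EssDimLib
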