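import Groth.Agent.FibDim.AffineSpaceFibre
import Groth.Agent.FibDim.Basic
import Groth.Agent.AlgSpPts.Field
import Groth.Agent.AlgSpDec.Basic
import Groth.Agent.AlgSpVal.ExistUC
import Groth.Agent.WeilLib.PointCount
import Groth.Agent.AlgSpLib.Points
import Groth.Prelude.Def_StCurv2

/-!
# Transcendence degree of points of algebraic spaces of bounded relative dimension over a field
-/

set_option autoImplicit false
set_option backward.isDefEq.respectTransparency false
set_option backward.isDefEq.respectTransparency.types false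

universe u

open CategoryTheory AlgebraicGeometry Opposite

namespace Groth.Agent.EssDimLib

theorem toENat_le_of_withBot {c : Cardinal.{u}} {n d : ℕ} (hc : (n : Cardinal) = c)
    (h : ((n : ℕ∞) : WithBot ℕ∞) ≤ (d : WithBot ℕ∞)) : c ≤ (d : Cardinal) := by
  rw [← hc]
  exact_mod_cast h

theorem trdeg_point_le {S : Scheme.{u}} {K : Type u} [Field K] {str : Spec (CommRingCat.of K) ⟶ S}
    {F : AlgSp.Sp S} (π : F ⟶ (AlgSp.yon S).obj (Over.mk str)) {d : ℕ}
    (hft : AlgSp.LocP @LocallyOfFiniteType π) (hdim : CurvSt.RelDimLE d π)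
    (p : AlgSp.FieldPt F) (hp : AlgSp.Representable p.toHom) [Mono p.toHom]
    (ψ : p.pt ⟶ Over.mk str) (hψ : p.toHom ≫ π = (AlgSp.yon S).map ψ)
    (φ : K →+* p.K) (hφ : Spec.map (CommRingCat.ofHom φ) = ψ.left) :
    (letI := φ.toAlgebra; Algebra.trdeg K p.K) ≤ (d : Cardinal) := by
  obtain ⟨U, V, a, b, h, u, ha, hb, w, hu, hQ⟩ := hdim (AlgSp.Points.mk p)
  let b' : V ⟶ Over.mk str := (AlgSp.yon S).preimage b
  have hb' : Etale b'.left := by
    rw [← (AlgSp.yon S).map_preimage b] at hb
    exact (AlgSp.repWith_yon_map_iff (P := @Etale) b').1 hb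
  have hh : LocallyOfFiniteType h.left := hft a b h ha hb w
  let g : U.left ⟶ Spec (CommRingCat.of K) := h.left ≫ b'.left
  have h1 : VarDim.rdeg b'.left (h.left u) = 0 := by
    rw [← FibDim.rd_eq_rdeg, FibDim.rd_eq_zero_of_quasiFinite b'.left (h.left u)]
    simp
  have h2 : VarDim.rdeg h.left u ≤ (d : Cardinal) := by
    have h3 := (FibDim.rd_le_fibreDimAt h.left (specializes_refl u) rfl).trans hQ
    exact toENat_le_of_withBot (FibDim.rd_eq_rdeg h.left u) h3
  have h4 : VarDim.tdeg g u ≤ (d : Cardinal) := by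
    rw [VarDim.tdeg_eq_rdeg, VarDim.rdeg_comp, h1, zero_add]
    exact h2
  obtain ⟨c, hc, -⟩ := AlgSpPts.existsUnique_factor p.toHom hp (AlgSp.FieldPt.ofPt a u).toHom (by
    rw [← AlgSpLib.mk_eq_ofPt, ← AlgSpLib.mk_eq_ofPt]
    exact hu.symm)
  have hcψ : (c ≫ ψ).left = U.left.fromSpecResidueField u ≫ g := by
    have e : (AlgSp.yon S).map (c ≫ ψ) = (AlgSp.yon S).map
        (Over.homMk (U.left.fromSpecResidueField u) rfl ≫ h ≫ b') := by
      rw [Functor.map_comp, ← hψ, ← Category.assoc, hc, AlgSp.FieldPt.toHom_ofPt, Category.assoc, w,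
        Functor.map_comp, Functor.map_comp, (AlgSp.yon S).map_preimage b]
    rw [(AlgSp.yon S).map_injective e]
    rfl
  let γ : p.K →+* U.left.residueField u := (Spec.preimage c.left).hom
  have hγ : γ.comp φ = VarDim.resHom g u := by
    have e : Spec.map (CommRingCat.ofHom (γ.comp φ)) = Spec.map (CommRingCat.ofHom (VarDim.resHom g u)) := by
      rw [← WeilLib.fromSpecResidueField_comp, ← hcψ, CommRingCat.ofHom_comp, Spec.map_comp, hφ]
      exact congrArg (· ≫ ψ.left) (Spec.map_preimage c.left)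
    exact congrArg CommRingCat.Hom.hom (Spec.map_injective e)
  letI := φ.toAlgebra
  letI : Algebra K (U.left.residueField u) := (VarDim.resHom g u).toAlgebra
  let γ' : p.K →ₐ[K] U.left.residueField u :=
    { γ with commutes' := fun r => RingHom.congr_fun hγ r }
  exact (trdeg_le_of_injective γ' γ'.injective).trans h4

end Groth.Agent.EssDimLib
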