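import Groth.Agent.EssDimLib.FieldPts
import Groth.Agent.EssDimLib.InterDescent
import Groth.Agent.EssDimLib.EquivDescent
import Mathlib.AlgebraicGeometry.Pullbacks

/-!
# Fields of definition of objects of a quotient stack
-/

set_option autoImplicit false
set_option backward.isDefEq.respectTransparency false
set_option backward.isDefEq.respectTransparency.types false

universe u

open CategoryTheory CategoryTheory.Limits MonoidalCategory CartesianMonoidalCategory AlgebraicGeometry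
open scoped TensorProduct

namespace Groth.Agent.EssDimLib

variable {k : Type u} [Field k]

/-- The spectrum of a `k`-algebra as an object over `Spec k`. -/
noncomputable abbrev sp (A : Type u) [CommRing A] [Algebra k A] : Over (Spec (CommRingCat.of k)) :=
  Over.mk (Spec.map (CommRingCat.ofHom (algebraMap k A)))

/-- The morphism of spectra of a map of `k`-algebras. -/
noncomputable def spMap {A B : Type u} [CommRing A] [Algebra k A] [CommRing B] [Algebra k B]
    (f : A →ₐ[k] B) : sp (k := k) B ⟶ sp A :=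
  Over.homMk (Spec.map (CommRingCat.ofHom f.toRingHom)) (by
    show Spec.map _ ≫ Spec.map _ = Spec.map _
    rw [← Spec.map_comp, ← CommRingCat.ofHom_comp]
    congr 2
    exact f.comp_algebraMap)

variable {A B C : Type u} [CommRing A] [Algebra k A] [CommRing B] [Algebra k B] [CommRing C] [Algebra k C]

theorem spMap_comp (f : A →ₐ[k] B) (g : B →ₐ[k] C) : spMap (g.comp f) = spMap g ≫ spMap f := by
  apply Over.OverMorphism.ext
  simp only [spMap, Over.homMk_left, Over.comp_left, ← Spec.map_comp, ← CommRingCat.ofHom_comp]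
  rfl

theorem spMap_comp' {f : A →ₐ[k] B} {g : B →ₐ[k] C} {h : A →ₐ[k] C} (e : g.comp f = h) :
    spMap g ≫ spMap f = spMap h := by
  rw [← spMap_comp, e]

theorem fqs_spMap {K : Type u} [Field K] [Algebra k K] {R : Type u} [CommRing R] [Algebra k R] [Nontrivial R]
    (f : K →ₐ[k] R) : fqs (spMap f).left := by
  have hflat : Flat (spMap f).left := by
    refine (HasRingHomProperty.Spec_iff (P := @Flat)).2 ?_
    letI := f.toRingHom.toAlgebra
    show (algebraMap K R).Flat
    rw [RingHom.flat_algebraMap_iff]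
    infer_instance
  refine ⟨⟨hflat, inferInstanceAs (QuasiCompact (Spec.map _))⟩, ⟨fun x => ?_⟩⟩
  obtain ⟨y⟩ : Nonempty (PrimeSpectrum R) := inferInstance
  exact ⟨y, Subsingleton.elim (α := PrimeSpectrum K) _ _⟩

theorem exists_descent (G X : Over (Spec (CommRingCat.of k))) [GrpObj G] (aX : AlgGrp.Action G X)
    [LocallyOfFiniteType X.hom]
    [FibCat.IsFibGrpd (AlgSt.BG Scheme.fppfPrecoverage G).p]
    {L : Type u} [Field L] [Algebra k L] (Pobj : AlgSt.QuotObj Scheme.fppfPrecoverage G aX)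
    (hP : Pobj.base = SGA7.pt (K := k) L) :
    ∃ K' : IntermediateField k L,
      ((Cardinal.toENat (Algebra.trdeg k K') : ℕ∞) : WithBot ℕ∞) ≤
        EssDim.edSt (AlgSt.BG Scheme.fppfPrecoverage G) + topologicalKrullDim (X.left : Type u) ∧
      ∃ (B : AlgSt.QuotObj Scheme.fppfPrecoverage G aX) (hB : B.base = SGA7.pt (K := k) K')
        (Ψ : Pobj ⟶ B), Ψ.base = eqToHom hP ≫ EssDim.resPt K'.val ≫ eqToHom hB.symm := by
  obtain ⟨base, P, act, π, cart, loc, φ, eqv⟩ := Pobj
  cases hP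
  let BG := AlgSt.BG Scheme.fppfPrecoverage G
  let Pb : AlgSt.QuotObj Scheme.fppfPrecoverage G (AlgSt.trivAction G) :=
    ⟨SGA7.pt (K := k) L, P, act, π, cart, loc, toUnit P, toUnit_unique _ _⟩
  let ξ : StkCnt.pts BG L := ⟨Pb, rfl⟩
  haveI : Nonempty {E : IntermediateField k L //
      EssDim.Descends (Gerb.isoClPsh BG) (Quot.mk (Gerb.IsoRel BG (SGA7.pt (K := k) L)) ξ) E} :=
    ⟨⟨⊤, EssDim.descends_top _⟩⟩
  obtain ⟨⟨K, hK⟩, hKmin⟩ := ciInf_mem fun E : {E : IntermediateField k L //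
      EssDim.Descends (Gerb.isoClPsh BG) (Quot.mk (Gerb.IsoRel BG (SGA7.pt (K := k) L)) ξ) E} =>
        Cardinal.toENat (Algebra.trdeg k E.1)
  have hed : ((Cardinal.toENat (Algebra.trdeg k K) : ℕ∞) : WithBot ℕ∞) ≤ EssDim.edSt BG := by
    refine le_trans (le_of_eq ?_) (EssDim.edAt_le_ed (Quot.mk (Gerb.IsoRel BG (SGA7.pt (K := k) L)) ξ))
    exact congrArg _ hKmin
  obtain ⟨⟨B₀, hB₀⟩, Ψ₀, hΨ₀⟩ := (EssDim.descends_isoCl_iff BG ξ K).1 hK
  obtain ⟨base₀, P₀, act₀, π₀, cart₀, loc₀, φ₀, eqv₀⟩ := B₀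
  change base₀ = SGA7.pt (K := k) K at hB₀
  subst hB₀
  have hbase₀ : Ψ₀.base = EssDim.resPt K.val := by
    have := @IsHomLift.fac' _ _ _ _ BG.p _ _ _ _ _ _ hΨ₀
    simp only [eqToHom_refl, Category.comp_id, Category.id_comp] at this
    exact this
  obtain ⟨E, _, _, _, p₁, hp₁⟩ := exists_finite_point loc₀
  letI : Algebra k E := ((algebraMap K E).comp (algebraMap k K)).toAlgebra
  haveI : IsScalarTower k K E := IsScalarTower.of_algebraMap_eq fun _ => rfl
  let πK : K →ₐ[k] E := IsScalarTower.toAlgHom k K E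
  let p : sp (k := k) E ⟶ P₀ := Over.homMk p₁ (by
    show p₁ ≫ P₀.hom = Spec.map _
    rw [← Over.w π₀, ← Category.assoc, show p₁ ≫ π₀.left = Spec.map _ from hp₁]
    show Spec.map _ ≫ Spec.map _ = _
    rw [← Spec.map_comp, ← CommRingCat.ofHom_comp, ← IsScalarTower.algebraMap_eq])
  have hp : p ≫ π₀ = spMap πK := Over.OverMorphism.ext hp₁
  -- the geometric point
  let M := AlgebraicClosure L
  haveI : IsScalarTower k K M := IsScalarTower.of_algebraMap_eq fun r => by
    rw [IsScalarTower.algebraMap_apply k L M, IsScalarTower.algebraMap_apply K L M,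
      ← IsScalarTower.algebraMap_apply k K L]
  let ιL : L →ₐ[k] M := IsScalarTower.toAlgHom k L M
  let ιK : K →ₐ[k] M := ιL.comp K.val
  let e₁ : E →ₐ[K] M := IsAlgClosed.lift
  have he₁ : (e₁.restrictScalars k).comp πK = ιK := by
    ext r
    exact (e₁.commutes r).trans (IsScalarTower.algebraMap_apply K L M r)
  have hΨ : IsPullback Ψ₀.top π π₀ (EssDim.resPt K.val) := hbase₀ ▸ Ψ₀.cart
  have hres : EssDim.resPt K.val = spMap K.val := Over.OverMorphism.ext rfl
  let b₀ : sp (k := k) M ⟶ P := hΨ.lift (spMap (e₁.restrictScalars k) ≫ p) (spMap ιL) (by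
    rw [Category.assoc, hp, hres, spMap_comp' he₁, spMap_comp' rfl])
  let x₀ : sp (k := k) M ⟶ X := b₀ ≫ φ
  let m₀ : PrimeSpectrum M := IsLocalRing.closedPoint M
  let z : X.left := x₀.left m₀
  letI : Algebra k (X.left.residueField z) := (VarDim.resHom X.hom z).toAlgebra
  let γr := X.left.descResidueField (K := M) (Scheme.stalkClosedPointTo x₀.left)
  have hγr : Spec.map γr ≫ X.left.fromSpecResidueField z = x₀.left :=
    Scheme.descResidueField_stalkClosedPointTo_fromSpecResidueField M X.left x₀.left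
  let γ : X.left.residueField z →ₐ[k] M :=
    { γr.hom with
      commutes' := fun r => by
        have : γr.hom.comp (algebraMap k (X.left.residueField z)) = algebraMap k M := by
          refine congrArg CommRingCat.Hom.hom (Spec.map_injective
            (a₁ := CommRingCat.ofHom (γr.hom.comp (algebraMap k (X.left.residueField z))))
            (a₂ := CommRingCat.ofHom (algebraMap k M)) ?_)
          rw [CommRingCat.ofHom_comp, Spec.map_comp, RingHom.algebraMap_toAlgebra,
            ← WeilLib.fromSpecResidueField_comp, ← Category.assoc]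
          exact (congrArg (· ≫ X.hom) hγr).trans (Over.w x₀)
        exact RingHom.congr_fun this r }
  obtain ⟨F, hγF, hFac, hFdeg⟩ := exists_algClosed_hull (K := K) γ
  have he₁F : ∀ c, e₁ c ∈ F := fun c =>
    hFac _ (IsAlgebraic.extendScalars (algebraMap K F).injective
      (IsAlgebraic.algHom e₁ (Algebra.IsAlgebraic.isAlgebraic (R := K) c)))
  -- the intersection
  let K' : IntermediateField k L := (F.restrictScalars k).comap ιL
  have hKK' : K ≤ K' := fun r hr => by
    show ιL r ∈ F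
    have := F.algebraMap_mem ⟨r, hr⟩
    exact this
  have hdeg : ((Cardinal.toENat (Algebra.trdeg k K') : ℕ∞) : WithBot ℕ∞) ≤
      EssDim.edSt BG + topologicalKrullDim (X.left : Type u) := by
    refine le_trans ?_ (add_le_add hed (tdeg_le_dim X.hom z))
    rw [← WithBot.coe_add, ← map_add, WithBot.coe_le_coe]
    refine OrderHomClass.mono Cardinal.toENat ?_
    let jF : K' →ₐ[k] F := (ιL.comp K'.val).codRestrict (F.restrictScalars k).toSubalgebra fun r => r.2
    refine (trdeg_le_of_injective jF jF.injective).trans ?_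
    rw [← trdeg_add_eq k K (A := F)]
    exact add_le_add le_rfl hFdeg
  refine ⟨K', hdeg, ?_⟩
  -- the torsor over `K'`
  let mK : SGA7.pt (K := k) K' ⟶ SGA7.pt (K := k) K := spMap (IntermediateField.inclusion hKK')
  let B₀' : AlgSt.QuotObj Scheme.fppfPrecoverage G (AlgSt.trivAction G) :=
    ⟨SGA7.pt (K := k) K, P₀, act₀, π₀, cart₀, loc₀, φ₀, eqv₀⟩
  have hpull := Gerb.pullHom_isHomLift BG B₀' mK
  haveI : BG.p.IsStronglyCartesian (BG.p.map (Gerb.pullHom BG B₀' mK)) (Gerb.pullHom BG B₀' mK) :=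
    FibCat.IsFibGrpd.isStronglyCartesian _
  have hcomp : EssDim.resPt K.val = (EssDim.resPt K'.val ≫ eqToHom (Gerb.pull_over BG B₀' mK).symm) ≫
      BG.p.map (Gerb.pullHom BG B₀' mK) := by
    rw [Gerb.pullHom_map, Category.assoc, eqToHom_trans_assoc, eqToHom_refl, Category.id_comp]
    exact (spMap_comp' (f := IntermediateField.inclusion hKK') (g := K'.val) (h := K.val) rfl).symm
  have hlift₁ := Functor.IsStronglyCartesian.map_isHomLift BG.p (BG.p.map (Gerb.pullHom BG B₀' mK))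
    (Gerb.pullHom BG B₀' mK) hcomp Ψ₀
  obtain ⟨B', Ψ₁, Ψ₂, hB'b, hu, hm, hΨ₂⟩ : ∃ (B' : AlgSt.QuotObj Scheme.fppfPrecoverage G (AlgSt.trivAction G))
      (Ψ₁ : Pb ⟶ B') (Ψ₂ : B' ⟶ B₀') (h : B'.base = SGA7.pt (K := k) K'),
      Ψ₁.base = EssDim.resPt K'.val ≫ eqToHom h.symm ∧ Ψ₂.base = eqToHom h ≫ mK ∧ Ψ₁ ≫ Ψ₂ = Ψ₀ := by
    refine ⟨Gerb.pull BG B₀' mK, _, Gerb.pullHom BG B₀' mK, Gerb.pull_over BG B₀' mK, ?_,
      Gerb.pullHom_map BG B₀' mK, Functor.IsStronglyCartesian.fac BG.p (BG.p.map (Gerb.pullHom BG B₀' mK))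
        (Gerb.pullHom BG B₀' mK) hcomp Ψ₀⟩
    have := @IsHomLift.fac' _ _ _ _ BG.p _ _ _ _ _ _ hlift₁
    simp only [eqToHom_refl, Category.comp_id, Category.id_comp] at this
    exact this
  obtain ⟨base', P', act', π', cart', loc', φ', eqv'⟩ := B'
  change base' = SGA7.pt (K := k) K' at hB'b
  subst hB'b
  simp only [eqToHom_refl, Category.comp_id, Category.id_comp] at hu hm
  have hsq₁ : IsPullback Ψ₁.top π π' (EssDim.resPt K'.val) := hu ▸ Ψ₁.cart
  have hsq₂ : IsPullback Ψ₂.top π' π₀ mK := hm ▸ Ψ₂.cart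
  have htop : Ψ₁.top ≫ Ψ₂.top = Ψ₀.top := congrArg AlgSt.QuotObj.Hom.top hΨ₂
  -- algebra
  letI : Algebra K K' := (IntermediateField.inclusion hKK').toRingHom.toAlgebra
  letI : Algebra K' F := ((ιL.comp K'.val).codRestrict (F.restrictScalars k).toSubalgebra fun r => r.2).toRingHom.toAlgebra
  haveI : IsScalarTower k K K' := IsScalarTower.of_algebraMap_eq fun r => rfl
  haveI : IsScalarTower k K' F := IsScalarTower.of_algebraMap_eq fun r => Subtype.ext (ιL.commutes r).symm
  haveI : IsScalarTower K K' F := IsScalarTower.of_algebraMap_eq fun r => Subtype.ext rfl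
  let iL : L →ₐ[K'] M := { ιL with commutes' := fun r => rfl }
  let iF : F →ₐ[K'] M := { F.val.toRingHom with commutes' := fun r => rfl }
  let Bt := K' ⊗[K] E
  let gE : E →ₐ[k] Bt := (Algebra.TensorProduct.includeRight : E →ₐ[K] Bt).restrictScalars k
  let gK : K' →ₐ[k] Bt := IsScalarTower.toAlgHom k K' Bt
  have hgK : gE.comp πK = gK.comp (IntermediateField.inclusion hKK') := by
    ext r
    show (1 : K') ⊗ₜ[K] algebraMap K E r = algebraMap K K' r ⊗ₜ[K] (1 : E)
    rw [← Algebra.TensorProduct.tmul_one_eq_one_tmul]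
  let p' : sp (k := k) Bt ⟶ P' := hsq₂.lift (spMap gE ≫ p) (spMap gK) (by
    rw [Category.assoc, hp, spMap_comp' hgK]
    exact (spMap_comp' rfl).symm)
  have hp' : p' ≫ π' = spMap gK := hsq₂.lift_snd _ _ _
  let eB : Bt →ₐ[K'] F := Algebra.TensorProduct.lift (Algebra.ofId K' F)
    (e₁.codRestrict F.toSubalgebra he₁F) (fun _ _ => Commute.all _ _)
  -- over `F`
  let F₁ : Bt →ₐ[k] F ⊗[K'] Bt := (Algebra.TensorProduct.includeRight : Bt →ₐ[K'] F ⊗[K'] Bt).restrictScalars k
  let F₂ : F →ₐ[k] F ⊗[K'] Bt := (Algebra.TensorProduct.includeLeft : F →ₐ[k] F ⊗[K'] Bt)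
  let L₁ : Bt →ₐ[k] L ⊗[K'] Bt := (Algebra.TensorProduct.includeRight : Bt →ₐ[K'] L ⊗[K'] Bt).restrictScalars k
  let L₂ : L →ₐ[k] L ⊗[K'] Bt := (Algebra.TensorProduct.includeLeft : L →ₐ[k] L ⊗[K'] Bt)
  let M₂ : M →ₐ[k] M ⊗[K'] Bt := (Algebra.TensorProduct.includeLeft : M →ₐ[k] M ⊗[K'] Bt)
  let cL : L ⊗[K'] Bt →ₐ[k] M ⊗[K'] Bt := (bcMap iL Bt).restrictScalars k
  let cF : F ⊗[K'] Bt →ₐ[k] M ⊗[K'] Bt := (bcMap iF Bt).restrictScalars k
  let bF : sp (k := k) F ⟶ P' := spMap (eB.restrictScalars k) ≫ p'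
  have hαβ : (spMap F₁ ≫ p') ≫ π' = (spMap F₂ ≫ bF) ≫ π' := by
    simp only [bF, Category.assoc, hp', ← spMap_comp]
    congr 1
    ext r
    show (1 : F) ⊗ₜ[K'] (algebraMap K' Bt r) = eB (algebraMap K' Bt r) ⊗ₜ[K'] (1 : Bt)
    rw [eB.commutes, ← Algebra.TensorProduct.tmul_one_eq_one_tmul]
  let gp := cart'.lift (spMap F₁ ≫ p') (spMap F₂ ≫ bF) hαβ
  let γF : X.left.residueField z →ₐ[k] F := γ.codRestrict (F.restrictScalars k).toSubalgebra hγF
  let ptX : sp (k := k) (X.left.residueField z) ⟶ X :=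
    Over.homMk (X.left.fromSpecResidueField z) (by
      rw [WeilLib.fromSpecResidueField_comp]
      rfl)
  let xF₀ : sp (k := k) F ⟶ X := spMap γF ≫ ptX
  have hxF₀ : spMap ((iF.restrictScalars k)) ≫ xF₀ = x₀ := by
    rw [← Category.assoc, spMap_comp' (h := γ) rfl]
    exact Over.OverMorphism.ext hγr
  let xF : sp (k := k) (F ⊗[K'] Bt) ⟶ X := lift (gp ≫ fst _ _) (spMap F₂ ≫ xF₀) ≫ aX.act
  have hLsq : (spMap L₁ ≫ p') ≫ π' = spMap L₂ ≫ EssDim.resPt K'.val := by
    rw [Category.assoc, hp', show EssDim.resPt K'.val = spMap K'.val from Over.OverMorphism.ext rfl,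
      ← spMap_comp, ← spMap_comp]
    congr 1
    ext r
    show (1 : L) ⊗ₜ[K'] (algebraMap K' Bt r) = algebraMap K' L r ⊗ₜ[K'] (1 : Bt)
    rw [← Algebra.TensorProduct.tmul_one_eq_one_tmul]
  let aA := hsq₁.lift (spMap L₁ ≫ p') (spMap L₂) hLsq
  have haA₁ : aA ≫ Ψ₁.top = spMap L₁ ≫ p' := hsq₁.lift_fst _ _ _
  have haA₂ : aA ≫ π = spMap L₂ := hsq₁.lift_snd _ _ _
  have hb₀ : b₀ ≫ Ψ₁.top = spMap (iF.restrictScalars k) ≫ bF := by
    refine hsq₂.hom_ext ?_ ?_
    · rw [Category.assoc, htop, hΨ.lift_fst, Category.assoc, Category.assoc, hsq₂.lift_fst,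
        ← Category.assoc (spMap (eB.restrictScalars k)), ← spMap_comp, ← Category.assoc, ← spMap_comp]
      congr 2
      ext c
      show e₁ c = ((eB ((1 : K') ⊗ₜ[K] c) : F) : M)
      simp only [eB]
      rw [Algebra.TensorProduct.lift_tmul, map_one, one_mul]
      rfl
    · rw [Category.assoc, hsq₁.w, ← Category.assoc, hΨ.lift_snd,
        show EssDim.resPt K'.val = spMap K'.val from Over.OverMorphism.ext rfl, ← spMap_comp,
        Category.assoc, Category.assoc, hp', ← spMap_comp, ← spMap_comp]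
      congr 1
      ext r
      show ιL r = ((eB (algebraMap K' Bt r) : F) : M)
      rw [eB.commutes]
      rfl
  have hkey : lift (spMap cF ≫ gp ≫ fst _ _) (spMap M₂ ≫ b₀) ≫ act.act = spMap cL ≫ aA := by
    refine hsq₁.hom_ext ?_ ?_
    · rw [Category.assoc, show act.act ≫ Ψ₁.top = (G ◁ Ψ₁.top) ≫ act'.act from Ψ₁.eqv, ← Category.assoc,
        lift_whiskerLeft, Category.assoc, hb₀, Category.assoc, haA₁]
      have e1 : spMap M₂ ≫ spMap (iF.restrictScalars k) = spMap cF ≫ spMap F₂ := by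
        rw [← spMap_comp, ← spMap_comp]
        congr 1
      have e2 : spMap cL ≫ spMap L₁ = spMap cF ≫ spMap F₁ := by
        rw [← spMap_comp, ← spMap_comp]
        congr 1
      have e3 : lift (spMap cF ≫ gp ≫ fst _ _) (spMap M₂ ≫ spMap (iF.restrictScalars k) ≫ bF) =
          spMap cF ≫ gp := by
        apply CartesianMonoidalCategory.hom_ext
        · rw [lift_fst, Category.assoc]
        · rw [lift_snd, Category.assoc, cart'.lift_snd, reassoc_of% e1]
      rw [e3, Category.assoc, cart'.lift_fst, reassoc_of% e2]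
    · rw [Category.assoc, cart.w, ← Category.assoc, lift_snd, Category.assoc, hΨ.lift_snd, Category.assoc,
        haA₂, ← spMap_comp, ← spMap_comp]
      congr 1
  have hx : spMap cL ≫ aA ≫ φ = spMap cF ≫ xF := by
    rw [← Category.assoc, ← hkey, Category.assoc, eqv, ← Category.assoc, lift_whiskerLeft, Category.assoc]
    show _ = spMap cF ≫ lift (gp ≫ fst _ _) (spMap F₂ ≫ xF₀) ≫ aX.act
    rw [← Category.assoc (spMap cF) (lift _ _), comp_lift]
    congr 2
    rw [← Category.assoc (spMap cF) (spMap F₂)]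
    have e1 : spMap cF ≫ spMap F₂ = spMap M₂ ≫ spMap (iF.restrictScalars k) := by
      rw [← spMap_comp, ← spMap_comp]
      congr 1
    rw [e1, Category.assoc, hxF₀]
  have hinter : ∀ (a : L) (b : F), iL a = iF b → a ∈ Set.range (algebraMap K' L) := fun a b hab =>
    ⟨⟨a, show ιL a ∈ F by rw [show ιL a = iL a from rfl, hab]; exact b.2⟩, rfl⟩
  obtain ⟨x', hx'⟩ := exists_desc_finite iL iF hinter (B := Bt) (aA ≫ φ).left xF.left
    (congrArg CommaMorphism.left hx)
  haveI : Nontrivial Bt :=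
    Algebra.TensorProduct.nontrivial_of_algebraMap_injective_of_isDomain K K' E
      (algebraMap K K').injective (algebraMap K E).injective
  have hu' : fqs (EssDim.resPt K'.val).left := fqs_spMap K'.val
  have hq : fqs (spMap gK).left := fqs_spMap gK
  have hpush : IsPullback (spMap L₂) (spMap L₁) (EssDim.resPt K'.val) (spMap gK) := by
    refine IsPullback.of_map (Over.forget _) ?_ ?_
    · rw [show EssDim.resPt K'.val = spMap K'.val from Over.OverMorphism.ext rfl, ← spMap_comp, ← spMap_comp]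
      congr 1
      ext r
      show algebraMap K' L r ⊗ₜ[K'] (1 : Bt) = (1 : L) ⊗ₜ[K'] algebraMap K' Bt r
      rw [← Algebra.TensorProduct.tmul_one_eq_one_tmul]
    · exact isPullback_SpecMap_of_isPushout _ _ _ _ (CommRingCat.isPushout_tensorProduct K' L Bt)
  let x'' : sp (k := k) Bt ⟶ X := Over.homMk x' (by
    haveI := epi_of_fqs (fqs_of_isPullback hpush.flip hu')
    haveI : Epi (spMap L₁).left := by
      obtain ⟨⟨_, _⟩, _⟩ := fqs_of_isPullback hpush.flip hu'
      exact Flat.epi_of_flat_of_surjective _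
    rw [← cancel_epi (spMap L₁).left, Over.w (spMap L₁), ← Category.assoc,
      show (spMap L₁).left ≫ x' = (aA ≫ φ).left from hx', Over.w (aA ≫ φ)])
  obtain ⟨φB, hφB, hφB'⟩ := exists_equivariant_desc
    (⟨SGA7.pt (K := k) L, P, act, π, cart, loc, φ, eqv⟩ : AlgSt.QuotObj Scheme.fppfPrecoverage G aX)
    (⟨SGA7.pt (K := k) K', P', act', π', cart', loc', φ', eqv'⟩ :
      AlgSt.QuotObj Scheme.fppfPrecoverage G (AlgSt.trivAction G))
    Ψ₁.top (EssDim.resPt K'.val) Ψ₁.eqv hsq₁ hu' (spMap gK) hq p' hp' x'' (spMap L₂) (spMap L₁) hpush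
    aA haA₂ haA₁ (Over.OverMorphism.ext hx'.symm)
  exact ⟨⟨SGA7.pt (K := k) K', P', act', π', cart', loc', φB, hφB'⟩, rfl,
    ⟨EssDim.resPt K'.val, Ψ₁.top, Ψ₁.eqv, hsq₁, hφB⟩, by simp⟩

end Groth.Agent.EssDimLib
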